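import Groth.Agent.AutCurve24.Families
import Groth.Agent.InfAut29.Converse
import Groth.Agent.CAlgSmall.UnramifiedDual

/-!
# The automorphism scheme is unramified iff there are no vector fields
-/

set_option autoImplicit false
set_option linter.style.haveILetI false
set_option linter.unusedSectionVars false
set_option backward.isDefEq.respectTransparency.types false
set_option backward.isDefEq.respectTransparency false
set_option maxHeartbeats 1000000

universe u

open CategoryTheory CategoryTheory.Limits MonoidalCategory CartesianMonoidalCategory MonObj GrpObj AlgebraicGeometry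
open Groth.Agent.IsoNatLib.Tangent ArtFun

namespace Groth.Agent.AutDer7

variable {k : Type u} [Field k] {X : Over (Spec (CommRingCat.of k))} [IsProper X.hom]
  {G : Over (Spec (CommRingCat.of k))} [GrpObj G] {a : AlgGrp.Action G X}
  (hG : AutSch.Represents X G a)

omit [IsProper X.hom] in
theorem one_left (T : Over (Spec (CommRingCat.of k))) :
    (1 : T ⟶ G).left = T.hom ≫ η[G].left := by
  rw [Hom.one_def]; rfl

include hG

/-- A tangent vector at the unit of the automorphism scheme is zero when there are no vector fields. -/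
theorem eq_unit_of_dual (h0 : Subsingleton (Omega.sheaf X.hom ⟶ Coh.structureModule X.left))
    (g : dualSpec k ⟶ G.left) (hg : g ≫ G.hom = proj k) (hcl : clPt k ≫ g = η[G].left) :
    g = proj k ≫ η[G].left := by
  let T : Over (Spec (CommRingCat.of k)) := Over.mk (proj k)
  let u : T ⟶ G := Over.homMk g hg
  let i₀ : 𝟙_ (Over (Spec (CommRingCat.of k))) ⟶ T := Over.homMk (clPt k) (clPt_proj k)
  have hiu : i₀ ≫ u = 1 := Over.OverMorphism.ext (by
    rw [one_left]; exact hcl.trans (Category.id_comp _).symm)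
  let j : X ⟶ X ⊗ T := lift (𝟙 X) (toUnit X ≫ i₀)
  have hj : j = lift (𝟙 X) (toUnit X) ≫ (X ◁ i₀) :=
    CartesianMonoidalCategory.hom_ext _ _ (by simp [j]) (by simp [j])
  have hjψ : j ≫ AutSch.famOf a u = 𝟙 X := by
    have : AutSch.pullFam i₀ (AutSch.famOf a u) = fst X _ := by
      rw [← AutSch.famOf_comp, hiu, AutCurve24.famOf_one]
    rw [AutSch.pullFam] at this
    rw [hj, Category.assoc, this, lift_fst]
  haveI : Flat (snd X T).left := MorphismProperty.pullback_snd (P := @Flat) X.hom T.hom inferInstance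
  haveI : Module.Finite k (DualNumber k) := inferInstanceAs (Module.Finite k (k × k))
  haveI : IsArtinianRing (DualNumber k) := IsArtinianRing.of_finite k (DualNumber k)
  have hr : Function.Surjective (TrivSqZeroExt.fstHom k k k).toRingHom :=
    fun r => ⟨TrivSqZeroExt.inl r, TrivSqZeroExt.fst_inl k r⟩
  have sq : IsPullback j.left X.hom (snd X T).left (clPt k) := by
    refine IsPullback.of_right (h₁₂ := (fst X T).left) (h₂₂ := T.hom) (v₁₃ := X.hom) ?_ ?_ ?_
    · rw [← Over.comp_left, lift_fst]
      haveI : IsIso (clPt k ≫ T.hom) := by show IsIso (clPt k ≫ proj k); rw [clPt_proj]; infer_instance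
      exact IsPullback.of_horiz_isIso ⟨by
        show 𝟙 _ ≫ X.hom = X.hom ≫ clPt k ≫ proj k
        rw [clPt_proj]; simp⟩
    · rw [← Over.comp_left, lift_snd]; rfl
    · exact IsPullback.of_hasPullback X.hom T.hom
  have he := InfAut29.eq_id (x := X.hom) hr sq h0 (AutSch.endOf (AutSch.famOf a u)).left
    (congrArg CommaMorphism.left (AutSch.endOf_snd _)) (by
      rw [← Over.comp_left]
      refine congrArg CommaMorphism.left (CartesianMonoidalCategory.hom_ext _ _ ?_ ?_)
      · rw [Category.assoc, AutSch.endOf_fst, hjψ, lift_fst]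
      · rw [Category.assoc, AutSch.endOf_snd])
  have he' : AutSch.endOf (AutSch.famOf a u) = 𝟙 _ := Over.OverMorphism.ext he
  have h3 : AutSch.famOf a u = fst X T := by
    rw [← AutSch.endOf_fst (AutSch.famOf a u), he', Category.id_comp]
  have h4 : u = 1 := ((AutSch.represents_iff G a).1 hG _ (fst X _) (AutCurve24.isAutFamily_fst _)).unique h3
    (AutCurve24.famOf_one a _)
  exact (congrArg CommaMorphism.left h4).trans (one_left T)

/-- No vector fields implies unramified. -/
theorem formallyUnramified [LocallyOfFiniteType G.hom]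
    (h0 : Subsingleton (Omega.sheaf X.hom ⟶ Coh.structureModule X.left)) : FormallyUnramified G.hom := by
  refine formallyUnramified_of_tangent G.hom fun K _ g₁ g₂ y hcl h₁ h₂ => ?_
  let T : Over (Spec (CommRingCat.of k)) := Over.mk (proj K ≫ y)
  let u₁ : T ⟶ G := Over.homMk g₁ h₁
  let u₂ : T ⟶ G := Over.homMk g₂ h₂
  let i₀ : Over.mk y ⟶ T := Over.homMk (clPt K)
    (by simp only [T, Over.mk_hom]; rw [← Category.assoc, clPt_proj]; exact Category.id_comp y)
  have hi₀ : i₀ ≫ u₁ = i₀ ≫ u₂ := Over.OverMorphism.ext hcl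
  suffices h : u₂⁻¹ * u₁ = 1 from congrArg CommaMorphism.left (inv_mul_eq_one.1 h).symm
  generalize hu : u₂⁻¹ * u₁ = u
  have hclu : clPt K ≫ u.left = y ≫ η[G].left := by
    have : i₀ ≫ u = 1 := by rw [← hu, MonObj.comp_mul, GrpObj.comp_inv, hi₀, inv_mul_cancel]
    exact (congrArg CommaMorphism.left this).trans (one_left _)
  have huT : u.left ≫ G.hom = proj K ≫ y := Over.w u
  obtain ⟨φ, hφ⟩ : ∃ φ : k →+* K, y = Spec.map (CommRingCat.ofHom φ) :=
    ⟨(Spec.preimage y).hom, (Spec.map_preimage y).symm⟩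
  -- an affine neighbourhood of the unit
  obtain ⟨V, hV, hpV, -⟩ := TopologicalSpace.Opens.isBasis_iff_nbhd.mp G.left.isBasis_affineOpens
    (show AutSch.unitPt G ∈ (⊤ : G.left.Opens) from trivial)
  have hηr : Set.range η[G].left ⊆ Set.range hV.fromSpec := by
    rintro _ ⟨p, rfl⟩
    rw [hV.range_fromSpec]
    have : Subsingleton (PrimeSpectrum k) := inferInstance
    rwa [show p = IsLocalRing.closedPoint k from @Subsingleton.elim (PrimeSpectrum k) this _ _]
  have hur : Set.range u.left ⊆ Set.range hV.fromSpec := by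
    rintro _ ⟨p, rfl⟩
    haveI : Module.Finite K (DualNumber K) := inferInstanceAs (Module.Finite K (K × K))
    haveI : IsArtinianRing (DualNumber K) := IsArtinianRing.of_finite K (DualNumber K)
    haveI : Subsingleton (dualSpec K) := inferInstanceAs (Subsingleton (PrimeSpectrum (DualNumber K)))
    rw [show u.left p = u.left (clPt K (default : PrimeSpectrum K)) from
      congrArg _ (@Subsingleton.elim (dualSpec K) _ _ _)]
    have h := congrArg (fun f : Spec (CommRingCat.of K) ⟶ G.left => f (default : PrimeSpectrum K)) hclu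
    exact (congrArg (· ∈ Set.range hV.fromSpec) h).mpr (hηr ⟨_, rfl⟩)
  obtain ⟨e₀, he₀⟩ : ∃ e₀ : Γ(G.left, V) ⟶ CommRingCat.of k, Spec.map e₀ ≫ hV.fromSpec = η[G].left :=
    ⟨Spec.preimage (IsOpenImmersion.lift hV.fromSpec η[G].left hηr), by
      rw [Spec.map_preimage]; exact IsOpenImmersion.lift_fac _ _ _⟩
  obtain ⟨ψ, hψ⟩ : ∃ ψ : Γ(G.left, V) ⟶ CommRingCat.of (DualNumber K), Spec.map ψ ≫ hV.fromSpec = u.left :=
    ⟨Spec.preimage (IsOpenImmersion.lift hV.fromSpec u.left hur), by
      rw [Spec.map_preimage]; exact IsOpenImmersion.lift_fac _ _ _⟩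
  obtain ⟨κ, hκ⟩ : ∃ κ : CommRingCat.of k ⟶ Γ(G.left, V), hV.fromSpec ≫ G.hom = Spec.map κ :=
    ⟨Spec.preimage _, (Spec.map_preimage _).symm⟩
  have hηG : η[G].left ≫ G.hom = 𝟙 _ := Over.w η[G]
  have hfst : ∀ b, TrivSqZeroExt.fst (ψ b) = φ (e₀ b) := by
    have : ψ ≫ CommRingCat.ofHom (TrivSqZeroExt.fstHom K K K).toRingHom = e₀ ≫ CommRingCat.ofHom φ := by
      apply Spec.map_injective
      rw [← cancel_mono hV.fromSpec, Spec.map_comp, Spec.map_comp, Category.assoc, Category.assoc, hψ, he₀, ← hφ]
      exact hclu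
    exact fun b => congr($this b)
  have hψκ : ∀ c, ψ (κ c) = TrivSqZeroExt.inl (φ c) := by
    have : κ ≫ ψ = CommRingCat.ofHom φ ≫ CommRingCat.ofHom (TrivSqZeroExt.inlHom K K) := by
      apply Spec.map_injective
      rw [Spec.map_comp, Spec.map_comp, ← hκ, ← Category.assoc, hψ, huT, hφ]
    exact fun c => congr($this c)
  have he₀κ : ∀ c, e₀ (κ c) = c := by
    have : κ ≫ e₀ = 𝟙 _ := by
      apply Spec.map_injective
      rw [Spec.map_comp, ← hκ, ← Category.assoc, he₀, hηG, Spec.map_id]; rfl
    exact fun c => congr($this c)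
  letI : Algebra k K := φ.toAlgebra
  have hz : ∀ (l : K →ₗ[k] k) b, l (TrivSqZeroExt.snd (ψ b)) = 0 := by
    intro l
    have hl : ∀ (c : k) z, l (φ c * z) = c * l z := fun c z => l.map_smul c z
    let ψl : Γ(G.left, V) →+* DualNumber k :=
      { toFun := fun b => TrivSqZeroExt.inl (e₀ b) + TrivSqZeroExt.inr (l (TrivSqZeroExt.snd (ψ b)))
        map_one' := by simp
        map_mul' := fun b c => by
          refine TrivSqZeroExt.ext (by simp) ?_
          simp only [map_mul, TrivSqZeroExt.snd_add, TrivSqZeroExt.snd_inl, TrivSqZeroExt.snd_inr, zero_add,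
            TrivSqZeroExt.snd_mul, TrivSqZeroExt.fst_add, TrivSqZeroExt.fst_inl, TrivSqZeroExt.fst_inr, add_zero,
            smul_eq_mul, MulOpposite.smul_eq_mul_unop, MulOpposite.unop_op, hfst, map_add, hl]
          rw [mul_comm (TrivSqZeroExt.snd (ψ b)), hl, mul_comm (e₀ c)]
        map_zero' := by simp
        map_add' := fun b c => by refine TrivSqZeroExt.ext (by simp) ?_; simp }
    have h := eq_unit_of_dual hG h0 (Spec.map (CommRingCat.ofHom ψl) ≫ hV.fromSpec) (by
        rw [Category.assoc, hκ, ← Spec.map_comp]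
        refine congrArg Spec.map (CommRingCat.hom_ext (RingHom.ext fun c => ?_))
        show TrivSqZeroExt.inl (e₀ (κ c)) + TrivSqZeroExt.inr (l (TrivSqZeroExt.snd (ψ (κ c)))) = _
        rw [hψκ, he₀κ, TrivSqZeroExt.snd_inl, map_zero, TrivSqZeroExt.inr_zero, add_zero]
        rfl) (by
        rw [← Category.assoc, ← Spec.map_comp, ← he₀]
        refine congrArg (· ≫ hV.fromSpec) (congrArg Spec.map (CommRingCat.hom_ext (RingHom.ext fun b => ?_)))
        show TrivSqZeroExt.fst (TrivSqZeroExt.inl (e₀ b) + TrivSqZeroExt.inr (l (TrivSqZeroExt.snd (ψ b)))) = _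
        simp)
    rw [← he₀, ← Category.assoc, ← Spec.map_comp, cancel_mono, Spec.map_inj] at h
    intro b
    have := congrArg TrivSqZeroExt.snd (show ψl b = TrivSqZeroExt.inl (e₀ b) from congr($h b))
    simpa [ψl] using this
  have hψe : ψ = e₀ ≫ CommRingCat.ofHom φ ≫ CommRingCat.ofHom (TrivSqZeroExt.inlHom K K) := by
    refine CommRingCat.hom_ext (RingHom.ext fun b => TrivSqZeroExt.ext ?_ ?_)
    · exact (hfst b).trans (by simp)
    · exact ((Module.forall_dual_apply_eq_zero_iff k _).1 fun l => hz l b).trans (by simp)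
  refine Over.OverMorphism.ext ?_
  rw [one_left, ← hψ, hψe, Spec.map_comp, Spec.map_comp, Category.assoc, Category.assoc, he₀, ← hφ]
  exact (Category.assoc _ _ _).symm

/-- Unramified implies no automorphisms of the trivial first order deformation. -/
theorem rigid [FormallyUnramified G.hom] (e : (InfAut29.trivialDual X.hom).Iso (InfAut29.trivialDual X.hom)) :
    e.iso.hom = 𝟙 _ := by
  let T : Over (Spec (CommRingCat.of k)) := Over.mk (Art.specMap (Art.ofBase (Art.dual k k)))
  let q : (InfAut29.trivialDual X.hom).total ⟶ X.left := pullback.fst X.hom (Art.specMap (Art.ofBase (Art.dual k k)))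
  have hef : e.iso.hom ≫ (InfAut29.trivialDual X.hom).f = (InfAut29.trivialDual X.hom).f := e.hom_f
  have hw : (e.iso.hom ≫ q) ≫ X.hom = (X ⊗ T).hom := by
    rw [← Over.w (snd X T), Category.assoc,
      show q ≫ X.hom = (InfAut29.trivialDual X.hom).f ≫ T.hom from pullback.condition, ← Category.assoc, hef]
    rfl
  let ψ : X ⊗ T ⟶ X := Over.homMk (e.iso.hom ≫ q) hw
  have hψ : (AutSch.endOf ψ).left = e.iso.hom := by
    refine pullback.hom_ext ?_ ?_
    · exact congrArg CommaMorphism.left (AutSch.endOf_fst ψ)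
    · exact (congrArg CommaMorphism.left (AutSch.endOf_snd ψ)).trans hef.symm
  have hfam : AutSch.IsAutFamily ψ := by
    haveI : IsIso ((Over.forget _).map (AutSch.endOf ψ)) := by
      show IsIso (AutSch.endOf ψ).left
      rw [hψ]; exact e.iso.isIso_hom
    exact isIso_of_reflects_iso _ (Over.forget _)
  have hrep := (AutSch.represents_iff G a).1 hG
  obtain ⟨g, hg, -⟩ := hrep T ψ hfam
  let i₀ : 𝟙_ (Over (Spec (CommRingCat.of k))) ⟶ T := Over.homMk (Art.specRes (Art.dual k k))
    (Art.specRes_comp (Art.ofBase (Art.dual k k)) |>.trans (by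
      show Spec.map (CommRingCat.ofHom (RingHom.id k)) = _
      rw [CommRingCat.ofHom_id, Spec.map_id]; rfl))
  have hcomp : (X ◁ i₀) ≫ ψ = fst X _ := by
    refine Over.OverMorphism.ext ?_
    have h1 : (X ◁ i₀).left = (fst X (𝟙_ _)).left ≫ (InfAut29.trivialDual X.hom).i := by
      refine pullback.hom_ext ?_ ?_
      · exact ((congrArg CommaMorphism.left (whiskerLeft_fst X i₀)).trans (Category.comp_id _).symm).trans
          ((congrArg (_ ≫ ·) (pullback.lift_fst _ _ _).symm).trans (Category.assoc _ _ _).symm)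
      · refine ((congrArg CommaMorphism.left (whiskerLeft_snd X i₀)).trans ?_).trans (Category.assoc _ _ _).symm
        refine Eq.trans ?_ (congrArg (_ ≫ ·) (pullback.lift_snd _ _ _).symm)
        show (snd X (𝟙_ _)).left ≫ i₀.left = (fst X (𝟙_ _)).left ≫ X.hom ≫ i₀.left
        rw [← Category.assoc, Over.w (fst X (𝟙_ _)), ← Over.w (snd X (𝟙_ _))]
        exact congrArg (· ≫ _) (Category.comp_id _).symm
    show (X ◁ i₀).left ≫ e.iso.hom ≫ q = _
    rw [h1, Category.assoc, ← Category.assoc (InfAut29.trivialDual X.hom).i, e.i_hom,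
      show (InfAut29.trivialDual X.hom).i ≫ q = 𝟙 X.left from pullback.lift_fst _ _ _]
    exact Category.comp_id _
  have hi1 : i₀ ≫ g = 1 := (hrep _ (fst X _) (AutCurve24.isAutFamily_fst _)).unique
    (by rw [AutSch.famOf_comp, hg]; exact hcomp) (AutCurve24.famOf_one a _)
  haveI : IsClosedImmersion i₀.left :=
    IsClosedImmersion.spec_of_surjective _ (Art.dual k k).res_surjective
  have hg1 : g = 1 := Over.OverMorphism.ext (FormallyUnramified.hom_ext i₀.left
    (CAlgSmall.ker_dualFst_sq k) G.hom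
    (by rw [← Over.comp_left, ← Over.comp_left, hi1, MonObj.comp_one]) (by rw [Over.w g, Over.w (1 : T ⟶ G)]))
  have hψ1 : ψ = fst X T := by rw [← hg, hg1, AutCurve24.famOf_one]
  rw [← hψ, hψ1, AutCurve24.endOf_fst_eq]
  rfl

theorem result_iff [LocallyOfFiniteType G.hom] :
    FormallyUnramified G.hom ↔
      ∀ (D : OmegaSh.Der X.hom (Coh.structureModule X.left)) (U : X.left.Opens) (s : Γ(X.left, U)),
        D.app U s = 0 := by
  refine ⟨fun _ D U s => ?_, fun h => formallyUnramified hG ⟨fun θ θ' => ?_⟩⟩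
  · haveI := InfAut29.subsingleton_hom_of_rigid X.hom (rigid hG)
    obtain ⟨θ, hθ, -⟩ := S5005.result X.hom (Coh.structureModule X.left) D
    rw [← hθ, Subsingleton.elim θ 0]
    rfl
  · refine OmegaLib.hom_ext_of_isUniversal (S5005.result X.hom) fun U s => ?_
    exact (h ((OmegaSh.dOmega X.hom).postcomp θ.val) U s).trans
      (h ((OmegaSh.dOmega X.hom).postcomp θ'.val) U s).symm

end Groth.Agent.AutDer7
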